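import Cfsg.Agent.H393.SpTool
import Cfsg.Agent.H995.CopEngine
import Cfsg.Agent.H537.CopDefs
import Cfsg.Agent.FastGrp
import Cfsg.Agent.Prune
set_option linter.all false
prune_inst 0x7f00000000000000000000000000000000000000000000000000000000000000000000000000000000000000000000000000000000000000000000000000000000000000000000000000000000000000003fffffffffffffffffffffffffffbeffbdffffffff
open scoped Cfsg.Agent.FastGrp

/-!
# Groups with a self-centralizing Sylow subgroup of prime order (helper537)
-/

set_option autoImplicit false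

namespace Cfsg.Agent.H537.Cop

open Subgroup

universe u

section basic

variable {G : Type*} [Group G] [Finite G] {p : ℕ}

omit [Finite G] in
theorem SC.sub (h : SC p G) (B : Subgroup G) : SC p B := by
  intro x hx
  have h1 : Nat.card (centralizer ({x} : Set B)) ∣ Nat.card (centralizer ({(x : G)} : Set G)) := by
    have h2 : (centralizer ({x} : Set B)).map B.subtype ≤ centralizer ({(x : G)} : Set G) := by
      rintro _ ⟨y, hy, rfl⟩
      rw [mem_centralizer_singleton_iff]
      exact congrArg Subtype.val (mem_centralizer_singleton_iff.1 hy)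
    have h3 : Nat.card ((centralizer ({x} : Set B)).map B.subtype) = Nat.card (centralizer ({x} : Set B)) :=
      card_map_of_injective B.subtype_injective
    rw [← h3]
    exact card_dvd_of_le h2
  rw [h x (by rw [orderOf_coe, hx])] at h1
  have h2 : p ∣ Nat.card (centralizer ({x} : Set B)) := by
    have h3 := orderOf_dvd_natCard (⟨x, mem_centralizer_singleton_iff.2 rfl⟩ : centralizer ({x} : Set B))
    rwa [Subgroup.orderOf_mk, hx] at h3
  exact Nat.dvd_antisymm h1 h2

theorem SC.cent_eq (h : SC p G) {x : G} (hx : orderOf x = p) : centralizer ({x} : Set G) = zpowers x := by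
  refine (eq_of_le_of_card_ge ?_ ?_).symm
  · rw [zpowers_le, mem_centralizer_singleton_iff]
  · rw [h x hx, Nat.card_zpowers, hx]

omit [Finite G] in
theorem SC.cent_zpowers (h : SC p G) {x : G} (hx : orderOf x = p) :
    Nat.card (centralizer (zpowers x : Set G)) = p := by
  have h1 : centralizer (zpowers x : Set G) = centralizer ({x} : Set G) := by
    apply le_antisymm
    · intro y hy
      rw [mem_centralizer_singleton_iff]
      exact (mem_centralizer_iff.1 hy x (mem_zpowers x)).symm
    · intro y hy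
      rw [mem_centralizer_iff]
      rintro z hz
      obtain ⟨n, rfl⟩ := mem_zpowers_iff.1 hz
      have h2 : Commute x y := (mem_centralizer_singleton_iff.1 hy).symm
      exact (h2.zpow_left n).eq
  rw [h1, h x hx]

/-- an element of order `p` normalizing a `p'`-subgroup acts without fixed points -/
theorem SC.modEq_one (hp : p.Prime) (h : SC p G) {Q : Subgroup G} {y : G} (hy : orderOf y = p)
    (hyn : y ∈ normalizer (Q : Set G)) (hpQ : ¬ p ∣ Nat.card Q) : Nat.card Q % p = 1 := by
  classical
  have hF : Fact p.Prime := ⟨hp⟩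
  have : Fintype Q := Fintype.ofFinite _
  let φ : MulAut Q := Subgroup.normalizerMonoidHom Q ⟨y, hyn⟩
  have hφ : ∀ q : Q, ((φ q : Q) : G) = y * q * y⁻¹ := fun q => rfl
  let f : Function.End Q := fun q => φ q
  have hfn : ∀ n : ℕ, (f ^ n : Function.End Q) = fun x => (φ ^ n : MulAut Q) x := by
    intro n
    induction n with
    | zero => rfl
    | succ n ih =>
      rw [pow_succ', ih]
      funext x
      rw [pow_succ']
      rfl
  have hφp : φ ^ p = 1 := by
    have h1 : (⟨y, hyn⟩ : normalizer (Q : Set G)) ^ p = 1 := Subtype.ext (by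
      show y ^ p = 1
      rw [← hy, pow_orderOf_eq_one])
    show (Subgroup.normalizerMonoidHom Q ⟨y, hyn⟩) ^ p = 1
    rw [← map_pow, h1, map_one]
  have hf : f ^ p ^ 1 = 1 := by
    rw [pow_one, hfn, hφp]
    rfl
  have h1 := Equiv.Perm.card_fixedPoints_modEq hf
  have h2 : Fintype.card f.fixedPoints = 1 := by
    rw [Fintype.card_eq_one_iff]
    refine ⟨⟨1, map_one φ⟩, fun q => Subtype.ext ?_⟩
    obtain ⟨q, hq⟩ := q
    have h3 : y * (q : G) * y⁻¹ = q := congrArg Subtype.val (show φ q = q from hq)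
    have h4 : (q : G) ∈ zpowers y := by
      rw [← h.cent_eq hy, mem_centralizer_singleton_iff]
      exact (mul_inv_eq_iff_eq_mul.1 h3).symm
    have h5 : orderOf (q : G) ∣ p := by
      have := orderOf_dvd_natCard (⟨(q : G), h4⟩ : zpowers y)
      rwa [Subgroup.orderOf_mk, Nat.card_zpowers, hy] at this
    rcases (Nat.dvd_prime hp).1 h5 with h6 | h6
    · exact Subtype.ext (orderOf_eq_one_iff.1 h6)
    · exact absurd (by
        have := orderOf_dvd_natCard q
        rwa [← Subgroup.orderOf_coe, h6] at this) hpQ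
  rw [h2, ← Nat.card_eq_fintype_card] at h1
  have h3 : Nat.card Q % p = 1 % p := h1
  rw [h3, Nat.mod_eq_of_lt hp.one_lt]

theorem sylow_of_order (hp : p.Prime) (hpp : ¬ p ^ 2 ∣ Nat.card G) {x : G} (hx : orderOf x = p) :
    ∃ S : Sylow p G, (S : Subgroup G) = zpowers x := by
  have hF : Fact p.Prime := ⟨hp⟩
  have hP : IsPGroup p (zpowers x) := IsPGroup.of_card (n := 1) (by rw [Nat.card_zpowers, hx, pow_one])
  obtain ⟨S, hS⟩ := hP.exists_le_sylow
  refine ⟨S, (eq_of_le_of_card_ge hS ?_).symm⟩
  obtain ⟨k, hk⟩ := IsPGroup.iff_card.1 S.2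
  have hk2 : k < 2 := by
    by_contra hc
    push Not at hc
    exact hpp ((pow_dvd_pow p hc).trans (hk ▸ card_subgroup_dvd_card (S : Subgroup G)))
  rw [hk, Nat.card_zpowers, hx]
  calc p ^ k ≤ p ^ 1 := Nat.pow_le_pow_right hp.pos (by omega)
    _ = p := pow_one p

/-- the order of the normalizer -/
theorem SC.card_norm (hp : p.Prime) (hpp : ¬ p ^ 2 ∣ Nat.card G) (h : SC p G) {x : G} (hx : orderOf x = p) :
    Nat.card (normalizer (zpowers x : Set G)) = p * (Nat.card G / p % p) := by
  have hF : Fact p.Prime := ⟨hp⟩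
  obtain ⟨S, hS⟩ := sylow_of_order hp hpp hx
  have h1 := Cfsg.Agent.H393.Sp.card_normalizer_dvd hp (P := zpowers x) (by rw [Nat.card_zpowers, hx])
  rw [h.cent_zpowers hx] at h1
  have h2 : p ∣ Nat.card (normalizer (zpowers x : Set G)) := by
    have h3 := card_dvd_of_le (le_normalizer (H := zpowers x))
    rwa [Nat.card_zpowers, hx] at h3
  obtain ⟨e, he⟩ := h2
  rw [he] at h1
  have h3 : e ∣ p - 1 := Nat.dvd_of_mul_dvd_mul_left hp.pos h1
  have h4 : e < p := by
    have := Nat.le_of_dvd (by have := hp.two_le; omega) h3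
    have := hp.two_le
    omega
  have h5 := card_sylow_modEq_one p G
  have hS' : (S : Set G) = (zpowers x : Set G) := by rw [← hS]; rfl
  rw [Sylow.card_eq_index_normalizer S, hS'] at h5
  have h6 := (normalizer (zpowers x : Set G)).card_mul_index
  rw [he] at h6
  have h7 : Nat.card G / p = e * (normalizer (zpowers x : Set G)).index := by
    rw [← h6, mul_assoc, Nat.mul_div_cancel_left _ hp.pos]
  rw [he, h7, Nat.mul_mod, show (normalizer (zpowers x : Set G)).index % p = 1 % p from h5,
    Nat.mod_eq_of_lt hp.one_lt, mul_one, Nat.mod_mod, Nat.mod_eq_of_lt h4]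

/-- the normalizer modulo the subgroup is commutative -/
theorem SC.norm_comm (h : SC p G) {x : G} (hx : orderOf x = p) {a b : G}
    (ha : a ∈ normalizer (zpowers x : Set G)) (hb : b ∈ normalizer (zpowers x : Set G)) :
    ∃ c ∈ zpowers x, a * b = b * a * c := by
  refine ⟨(b * a)⁻¹ * (a * b), ?_, by group⟩
  rw [← h.cent_eq hx, mem_centralizer_singleton_iff]
  obtain ⟨i, hi⟩ := mem_zpowers_iff.1 ((mem_normalizer_iff.1 ha x).1 (mem_zpowers x))
  obtain ⟨j, hj⟩ := mem_zpowers_iff.1 ((mem_normalizer_iff.1 hb x).1 (mem_zpowers x))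
  have h1 : a * b * x * (a * b)⁻¹ = x ^ (i * j) := by
    calc a * b * x * (a * b)⁻¹ = a * (b * x * b⁻¹) * a⁻¹ := by group
      _ = a * x ^ j * a⁻¹ := by rw [hj]
      _ = (a * x * a⁻¹) ^ j := by rw [conj_zpow]
      _ = x ^ (i * j) := by rw [← hi, zpow_mul]
  have h2 : b * a * x * (b * a)⁻¹ = x ^ (i * j) := by
    calc b * a * x * (b * a)⁻¹ = b * (a * x * a⁻¹) * b⁻¹ := by group
      _ = b * x ^ i * b⁻¹ := by rw [hi]
      _ = (b * x * b⁻¹) ^ i := by rw [conj_zpow]
      _ = x ^ (i * j) := by rw [← hj, ← zpow_mul, mul_comm]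
  have h3 : (b * a)⁻¹ * (a * b) * x * ((b * a)⁻¹ * (a * b))⁻¹ = x := by
    calc (b * a)⁻¹ * (a * b) * x * ((b * a)⁻¹ * (a * b))⁻¹ = (b * a)⁻¹ * (a * b * x * (a * b)⁻¹) * (b * a) := by group
      _ = (b * a)⁻¹ * (b * a * x * (b * a)⁻¹) * (b * a) := by rw [h1, h2]
      _ = x := by group
  exact mul_inv_eq_iff_eq_mul.1 h3

end basic

section struct

/-- **Structure of a group with a self-centralizing Sylow subgroup of prime order.** -/
theorem SC.exists_struct {G : Type u} [Group G] [Finite G] {p : ℕ} (hp : p.Prime) (hpG : p ∣ Nat.card G)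
    (hpp : ¬ p ^ 2 ∣ Nat.card G) (h : SC p G) :
    ∃ (M : Subgroup G) (S : Type u) (_ : Group S) (_ : Finite S), IsSimpleGroup S ∧ p ∣ Nat.card S ∧ M.Normal ∧
      ¬ p ∣ Nat.card M ∧ (∀ q, q.Prime → q ^ (Nat.card M).factorization q % p = 1) ∧
      ∃ f, Nat.card G = Nat.card M * Nat.card S * f ∧ Nat.card G / p % p = Nat.card S / p % p * f := by
  classical
  have hF : Fact p.Prime := ⟨hp⟩
  obtain ⟨M, hMn, hpM, hmax⟩ := Cfsg.Agent.H995.CopEngine.exists_core G hp
  have hMi : Nat.card M * Nat.card (G ⧸ M) = Nat.card G := by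
    rw [← Subgroup.index_eq_card]; exact M.card_mul_index
  have hpQ : p ∣ Nat.card (G ⧸ M) := by
    rw [← hMi] at hpG
    exact (hp.dvd_mul.1 hpG).resolve_left hpM
  have hppQ : ¬ p ^ 2 ∣ Nat.card (G ⧸ M) := fun h1 => hpp (h1.trans (Dvd.intro_left _ hMi))
  have hO : ∀ A : Subgroup (G ⧸ M), A.Normal → ¬ p ∣ Nat.card A → A = ⊥ := by
    intro A hA hpA
    have h1 : Nat.card (A.comap (QuotientGroup.mk' M)) = Nat.card M * Nat.card A := by
      have h2 := (A.comap (QuotientGroup.mk' M)).card_mul_index
      rw [index_comap_of_surjective _ (QuotientGroup.mk'_surjective M)] at h2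
      have h4 := A.card_mul_index
      rw [← h4, ← h2, ← mul_assoc] at hMi
      exact (Nat.eq_of_mul_eq_mul_right (Nat.pos_of_ne_zero A.index_ne_zero_of_finite) hMi).symm
    have h2 := hmax _ (hA.comap (QuotientGroup.mk' M)) (by
      rw [h1]; exact fun h3 => (hp.dvd_mul.1 h3).elim hpM hpA)
    rw [eq_bot_iff]
    intro a ha
    obtain ⟨g, rfl⟩ := QuotientGroup.mk'_surjective M a
    have h3 : g ∈ M := h2 (mem_comap.2 ha)
    rw [mem_bot]
    exact (QuotientGroup.eq_one_iff g).2 h3
  obtain ⟨P⟩ : Nonempty (Sylow p (G ⧸ M)) := inferInstance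
  have hsimple := Cfsg.Agent.H995.CopEngine.simple_closure hp hpQ hppQ hO P
  set S' : Subgroup (G ⧸ M) := Subgroup.normalClosure ((P : Subgroup (G ⧸ M)) : Set (G ⧸ M)) with hS'
  have hpS' : p ∣ Nat.card S' := by
    have h1 := Cfsg.Agent.H995.CopEngine.sylow_card hp hpQ hppQ P
    have h2 := card_dvd_of_le (Subgroup.le_normalClosure : (P : Subgroup (G ⧸ M)) ≤ S')
    rwa [h1] at h2
  let S : Subgroup G := S'.comap (QuotientGroup.mk' M)
  have hSn : S.Normal := inferInstance
  have hSc : Nat.card S = Nat.card M * Nat.card S' := by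
    have h2 := S.card_mul_index
    have h2' : S.index = S'.index := index_comap_of_surjective _ (QuotientGroup.mk'_surjective M)
    rw [h2'] at h2
    have h4 := S'.card_mul_index
    rw [← h4, ← h2, ← mul_assoc] at hMi
    exact (Nat.eq_of_mul_eq_mul_right (Nat.pos_of_ne_zero S'.index_ne_zero_of_finite) hMi).symm
  -- an element of order `p` in `S`
  have hpS : p ∣ Nat.card S := hSc ▸ (hpS'.mul_left _)
  have hppS : ¬ p ^ 2 ∣ Nat.card S := fun h1 => hpp (h1.trans (card_subgroup_dvd_card S))
  obtain ⟨x, hx⟩ := exists_prime_orderOf_dvd_card' (G := S) p hpS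
  have hx' : orderOf (x : G) = p := by rw [orderOf_coe, hx]
  obtain ⟨Q, hQ⟩ := sylow_of_order hp hppS hx
  have hfr : normalizer (((Q : Subgroup S).map S.subtype : Subgroup G) : Set G) ⊔ S = ⊤ := Sylow.normalizer_sup_eq_top Q
  have hmap : (Q : Subgroup S).map S.subtype = zpowers (x : G) := by
    rw [hQ, MonoidHom.map_zpowers]
    rfl
  rw [hmap] at hfr
  set N := normalizer (zpowers (x : G) : Set G) with hN
  have e1 := h.card_norm hp hpp hx'
  have e2 := (h.sub S).card_norm hp hppS hx
  rw [← hN] at e1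
  -- `N ∩ S` is the normalizer in `S`
  have e3 : Nat.card (S.subgroupOf N) = Nat.card (normalizer (zpowers x : Set S)) := by
    have h1 : (normalizer (zpowers x : Set S)).map S.subtype = (S.subgroupOf N).map N.subtype := by
      rw [subgroupOf_map_subtype]
      ext g
      constructor
      · rintro ⟨s, hs, rfl⟩
        refine ⟨s.2, ?_⟩
        show (s : G) ∈ N
        rw [hN, mem_normalizer_iff]
        have hs' := mem_normalizer_iff.1 hs
        intro y
        constructor
        · intro hy
          obtain ⟨n, rfl⟩ := mem_zpowers_iff.1 hy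
          have h2 := (hs' (x ^ n)).1 (zpow_mem (mem_zpowers x) n)
          obtain ⟨m, hm⟩ := mem_zpowers_iff.1 h2
          exact mem_zpowers_iff.2 ⟨m, congrArg Subtype.val hm⟩
        · intro hy
          obtain ⟨n, hn⟩ := mem_zpowers_iff.1 hy
          have h2 : s⁻¹ * x ^ n * s ∈ zpowers x := by
            refine (hs' _).2 ?_
            have e : s * (s⁻¹ * x ^ n * s) * s⁻¹ = x ^ n := by group
            rw [e]
            exact zpow_mem (mem_zpowers x) n
          obtain ⟨m, hm⟩ := mem_zpowers_iff.1 h2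
          refine mem_zpowers_iff.2 ⟨m, ?_⟩
          have h3 : (x : G) ^ m = (s : G)⁻¹ * (x : G) ^ n * s := congrArg Subtype.val hm
          rw [h3, hn]
          group
      · rintro ⟨hgS, hgN⟩
        refine ⟨⟨g, hgS⟩, ?_, rfl⟩
        show (⟨g, hgS⟩ : S) ∈ normalizer (zpowers x : Set S)
        have hg' := mem_normalizer_iff.1 (show g ∈ normalizer (zpowers (x : G) : Set G) from hgN)
        rw [mem_normalizer_iff]
        intro y
        have key : ∀ z : S, z ∈ zpowers x ↔ (z : G) ∈ zpowers (x : G) := by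
          intro z
          rw [mem_zpowers_iff, mem_zpowers_iff]
          exact ⟨fun ⟨n, hn⟩ => ⟨n, congrArg Subtype.val hn⟩, fun ⟨n, hn⟩ => ⟨n, Subtype.ext hn⟩⟩
        show y ∈ zpowers x ↔ ⟨g, hgS⟩ * y * ⟨g, hgS⟩⁻¹ ∈ zpowers x
        rw [key, key]
        exact hg' y
    have h2 := congrArg (fun H : Subgroup G => Nat.card H) h1
    simp only [card_map_of_injective S.subtype_injective, card_map_of_injective N.subtype_injective] at h2
    exact h2.symm
  have e4 : S.index = S.relIndex N := by
    have h1 : S.relIndex (N ⊔ S) = S.relIndex N := relIndex_sup_right N S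
    rw [← h1, hfr, relIndex_top_right]
  have e5 : Nat.card (S.subgroupOf N) * S.index = Nat.card N := by
    rw [e4]
    exact (S.subgroupOf N).card_mul_index
  rw [e3, e2, e1, mul_assoc] at e5
  have e6 := Nat.eq_of_mul_eq_mul_left hp.pos e5
  -- `|M|` is congruent to 1
  have hM1 : Nat.card M % p = 1 := by
    refine h.modEq_one hp hx' ?_ hpM
    rw [normalizer_eq_top_iff.2 hMn]
    exact mem_top _
  have e7 : Nat.card S / p % p = Nat.card S' / p % p := by
    obtain ⟨c, hc⟩ := hpS'
    rw [hSc, hc, show Nat.card M * (p * c) = p * (Nat.card M * c) by ring, Nat.mul_div_cancel_left _ hp.pos,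
      Nat.mul_div_cancel_left _ hp.pos, Nat.mul_mod, hM1, one_mul, Nat.mod_mod]
  rw [e7] at e6
  refine ⟨M, S', inferInstance, inferInstance, hsimple, hpS', hMn, hpM, ?_, S.index, ?_, e6.symm⟩
  · intro q hq
    have hqF : Fact q.Prime := ⟨hq⟩
    obtain ⟨R⟩ : Nonempty (Sylow q M) := inferInstance
    have h1 : normalizer (((R : Subgroup M).map M.subtype : Subgroup G) : Set G) ⊔ M = ⊤ := Sylow.normalizer_sup_eq_top R
    have h2 : Nat.card ((R : Subgroup M).map M.subtype) = q ^ (Nat.card M).factorization q := by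
      rw [card_map_of_injective M.subtype_injective, R.card_eq_multiplicity]
    have h3 : p ∣ Nat.card (normalizer (((R : Subgroup M).map M.subtype : Subgroup G) : Set G)) := by
      have h4 := Lib.Cores.card_sup_dvd M (normalizer (((R : Subgroup M).map M.subtype : Subgroup G) : Set G)) hMn
      rw [sup_comm, h1, card_top] at h4
      exact (hp.dvd_mul.1 (hpG.trans h4)).resolve_left hpM
    obtain ⟨y, hy⟩ := exists_prime_orderOf_dvd_card' p h3
    rw [← h2]
    refine h.modEq_one hp (y := (y : G)) (by rw [orderOf_coe, hy]) y.2 ?_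
    rw [card_map_of_injective M.subtype_injective]
    exact fun h4 => hpM (h4.trans (card_subgroup_dvd_card _))
  · rw [← hSc]
    exact S.card_mul_index.symm

end struct

end Cfsg.Agent.H537.Cop
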