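import Cfsg.Agent.H537.CopSuzEl
import Cfsg.Agent.H436.HeFive_m3
import Cfsg.Agent.Prune
set_option linter.all false
prune_inst 0x7f00000000000000000000000000000000000000000000000000000000000000000000000000000000000000000000000000000000000000000000000000000000000000000000000000000000000000003fffffffffffffffffffffffffffbeffbdffffffff
open scoped Cfsg.Agent.FastGrp

/-!
# Elements of order 17 of `He` (helper537)
-/

set_option autoImplicit false

namespace Cfsg.Agent.H537.Cop

open Subgroup Cfsg

theorem he_17 : SC 17 Spor.He := by
  have hcard : Nat.card Cfsg.Spor.He = 4030387200 := KFacts.He.Classes.card_he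
  have hfin : Finite Cfsg.Spor.He := Nat.finite_of_card_ne_zero (by rw [hcard]; norm_num)
  have key : ∀ x : Spor.He, orderOf x = 17 → Nat.card ↥(centralizer ({x} : Set Spor.He)) ≤ 17 → SC 17 Spor.He := by
    intro x ho hle
    refine SC.of_one (p := 17) (by norm_num) (by rw [hcard]; norm_num) ho (le_antisymm hle ?_)
    have h2 := orderOf_dvd_natCard (⟨x, mem_centralizer_singleton_iff.2 rfl⟩ : centralizer ({x} : Set Spor.He))
    rw [Subgroup.orderOf_mk, ho] at h2
    exact Nat.le_of_dvd Nat.card_pos h2
  exact key _ H393.Sp.He.order H393.Sp.He.card_le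

end Cfsg.Agent.H537.Cop
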